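import Groth.Agent.HopfFF.Basic

/-! The image of a map of Hopf algebras is a Hopf subalgebra. -/

set_option autoImplicit false
universe u v w

open TensorProduct WithConv

noncomputable section

namespace Groth.Agent.HopfFF

variable {k : Type u} [CommRing k] {A : Type v} [CommRing A] [HopfAlgebra k A]
variable {B : Type w} [CommRing B] [HopfAlgebra k B]

theorem map_antipode' (f : A →ₐc[k] B) (a : A) :
    f (HopfAlgebra.antipode k a) = HopfAlgebra.antipode k (f a) := by
  set F : A →ₗ[k] B := f.toLinearMap with hF
  have hFa : ∀ x, F x = f x := fun _ => rfl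
  have h1 : toConv (F ∘ₗ HopfAlgebra.antipode k) * toConv F = 1 := by
    refine WithConv.ofConv_injective (LinearMap.ext fun x => ?_)
    simp only [LinearMap.convMul_def, LinearMap.convOne_def, LinearMap.comp_apply]
    have : ∀ y : A ⊗[k] A, LinearMap.mul' k B (TensorProduct.map (F ∘ₗ HopfAlgebra.antipode k) F y) =
        F (LinearMap.mul' k A ((HopfAlgebra.antipode k).rTensor A y)) := by
      intro y
      induction y with
      | zero => simp
      | add p q hp hq => simp only [map_add, hp, hq]
      | tmul p q => simp [hFa]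
    rw [this, HopfAlgebra.mul_antipode_rTensor_comul_apply, hFa]
    exact AlgHomClass.commutes f _
  have h2 : toConv F * toConv (HopfAlgebra.antipode k ∘ₗ F) = 1 := by
    refine WithConv.ofConv_injective (LinearMap.ext fun x => ?_)
    simp only [LinearMap.convMul_def, LinearMap.convOne_def, LinearMap.comp_apply]
    have h3 : TensorProduct.map F F (Coalgebra.comul (R := k) x) = Coalgebra.comul (R := k) (F x) :=
      CoalgHomClass.map_comp_comul_apply f x
    have : ∀ y : A ⊗[k] A, LinearMap.mul' k B (TensorProduct.map F (HopfAlgebra.antipode k ∘ₗ F) y) =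
        LinearMap.mul' k B ((HopfAlgebra.antipode k).lTensor B (TensorProduct.map F F y)) := by
      intro y
      induction y with
      | zero => simp
      | add p q hp hq => simp only [map_add, hp, hq]
      | tmul p q => simp
    rw [this, h3, HopfAlgebra.mul_antipode_lTensor_comul_apply, hFa, CoalgHomClass.counit_comp_apply f x]
    rfl
  exact LinearMap.congr_fun (congrArg WithConv.ofConv (left_inv_eq_right_inv h1 h2)) a

theorem isHopfSub_range {k : Type u} [Field k] {A : Type v} [CommRing A] [HopfAlgebra k A] {B : Type w}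
    [CommRing B] [HopfAlgebra k B] (f : A →ₐc[k] B) : IsHopfSub (f : A →ₐ[k] B).range := by
  refine ⟨fun b hb => ?_, fun b hb => ?_⟩
  · obtain ⟨a, rfl⟩ := hb
    refine ⟨TensorProduct.map (f : A →ₐ[k] B).rangeRestrict.toLinearMap
      (f : A →ₐ[k] B).rangeRestrict.toLinearMap (Coalgebra.comul (R := k) a), ?_⟩
    rw [TensorProduct.map_map]
    exact CoalgHomClass.map_comp_comul_apply f a
  · obtain ⟨a, rfl⟩ := hb
    exact ⟨HopfAlgebra.antipode k a, map_antipode' f a⟩

theorem faithfullyFlat_range {k : Type u} [Field k] {A : Type v} [CommRing A] [HopfAlgebra k A] {B : Type w}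
    [CommRing B] [HopfAlgebra k B] (f : A →ₐc[k] B) :
    ((f : A →ₐ[k] B).range.val : (f : A →ₐ[k] B).range →+* B).FaithfullyFlat :=
  (RingHom.faithfullyFlat_algebraMap_iff (R := (f : A →ₐ[k] B).range) (S := B)).mpr
    (faithfullyFlat_of_hopfSub (isHopfSub_range f))

theorem faithfullyFlat_of_injective {k : Type u} [Field k] {A : Type v} [CommRing A] [HopfAlgebra k A]
    {B : Type w} [CommRing B] [HopfAlgebra k B] (f : A →ₐc[k] B) (hf : Function.Injective f) :
    (f : A →+* B).FaithfullyFlat := by
  have h1 : ((f : A →ₐ[k] B).rangeRestrict : A →+* (f : A →ₐ[k] B).range).FaithfullyFlat :=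
    RingHom.FaithfullyFlat.of_bijective
      ⟨fun a b h => hf (congrArg Subtype.val h), AlgHom.rangeRestrict_surjective _⟩
  letI : Algebra A B := (f : A →+* B).toAlgebra
  letI : Algebra A (f : A →ₐ[k] B).range :=
    ((f : A →ₐ[k] B).rangeRestrict : A →+* (f : A →ₐ[k] B).range).toAlgebra
  haveI : IsScalarTower A (f : A →ₐ[k] B).range B := IsScalarTower.of_algebraMap_eq fun a => rfl
  haveI : Module.FaithfullyFlat A (f : A →ₐ[k] B).range := h1
  haveI : Module.FaithfullyFlat (f : A →ₐ[k] B).range B := faithfullyFlat_of_hopfSub (isHopfSub_range f)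
  exact Module.FaithfullyFlat.trans A (f : A →ₐ[k] B).range B

end Groth.Agent.HopfFF
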