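import Groth.Agent.HopfFF.Basic
import Groth.Prelude.Def_GLin4

/-! Affine algebraic groups are linear. -/

set_option autoImplicit false
universe u v

open TensorProduct WithConv

noncomputable section

namespace Groth.Agent.HopfFF

open Groth.Agent.Comodule

variable {k : Type u} [Field k] {A : Type v} [CommRing A] [HopfAlgebra k A]

/-- A finite set lies in the span of the entries of a multiplicative matrix with invertible determinant. -/
theorem exists_coord_matrix (s : Finset A) :
    ∃ (n : ℕ) (M : Matrix (Fin n) (Fin n) A) (d : A), M.det * d = 1 ∧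
      (∀ i j, CoalgebraStruct.comul (R := k) (M i j) = ∑ l, M i l ⊗ₜ[k] M l j) ∧
      (∀ i j, CoalgebraStruct.counit (R := k) (M i j) = if i = j then 1 else 0) ∧
      ∀ a ∈ s, a ∈ Submodule.span k (Set.range fun p : Fin n × Fin n => M p.1 p.2) := by
  classical
  let V : Submodule k A := (Submodule.span (WithConv (A →ₗ[k] k)) (s : Set A)).restrictScalars k
  haveI : Module.Finite k V := finite_span_of_finite s.finite_toSet
  have hV : HopfRep.IsSubcomod (k := k) (A := A) V := isSubcomod_restrictScalars _
  let b := Module.finBasis k V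
  choose φ hφ using fun l => LinearMap.exists_extend (b.coord l)
  let x : Fin (Module.finrank k V) → A := fun i => (b i : A)
  let C : Matrix _ _ A := Matrix.of fun i l => coefMap (C := A) (φ l) (x i)
  have hx : ∀ i, CoalgebraStruct.comul (R := k) (x i) = ∑ j, x j ⊗ₜ[k] C i j := by
    intro i
    obtain ⟨z, hz⟩ := hV (x i) (b i).2
    have hrep : ∀ z : V ⊗[k] A, z = ∑ j, b j ⊗ₜ[k] lcon (b.coord j) z := by
      intro z
      induction z with
      | zero => simp
      | add p q hp hq =>
        simp only [map_add, TensorProduct.tmul_add, Finset.sum_add_distrib]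
        rw [← hp, ← hq]
      | tmul p a =>
        conv_lhs => rw [← b.sum_repr p, TensorProduct.sum_tmul]
        simp [TensorProduct.smul_tmul]
    change HopfRep.Comod.coact (k := k) (A := A) (x i) = _
    rw [← hz]
    conv_lhs => rw [hrep z]
    rw [map_sum]
    refine Finset.sum_congr rfl fun j _ => ?_
    rw [LinearMap.rTensor_tmul]
    congr 1
    change _ = lcon (φ j) (HopfRep.Comod.coact (k := k) (A := A) (x i))
    rw [← hz, lcon_rTensor, hφ]
  let M : Matrix _ _ A := C.transpose
  have h0 : ∀ i j, CoalgebraStruct.comul (R := k) (M i j) = ∑ l, M i l ⊗ₜ[k] M l j := by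
    intro i j
    have h3 := LinearMap.congr_fun (isComodHom_restrictScalars (coefMap (C := A) (φ i))) (x j)
    simp only [LinearMap.comp_apply, LinearMap.coe_restrictScalars, coact_regular, hx, map_sum,
      LinearMap.rTensor_tmul] at h3
    exact h3
  have h2 : ∀ i j, CoalgebraStruct.counit (R := k) (M i j) = if i = j then 1 else 0 := by
    intro i j
    change Coalgebra.counit (R := k) (coefMap (C := A) (φ i) (x j)) = _
    rw [counit_coefMap]
    have h4 := LinearMap.congr_fun (hφ i) (b j)
    simp only [LinearMap.comp_apply, Submodule.subtype_apply] at h4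
    rw [h4, b.coord_apply, b.repr_self, Finsupp.single_apply]
    simp [eq_comm]
  have h1 : M * M.map (HopfAlgebra.antipode k) = 1 := by
    ext i j
    have h := HopfAlgebra.mul_antipode_lTensor_comul_apply (R := k) (M i j)
    rw [h0, map_sum, map_sum, h2, apply_ite (algebraMap k A), map_one, map_zero] at h
    simp only [LinearMap.lTensor_tmul, LinearMap.mul'_apply] at h
    simp only [Matrix.mul_apply, Matrix.map_apply, Matrix.one_apply]
    exact h
  refine ⟨_, M, (M.map (HopfAlgebra.antipode k)).det, ?_, h0, h2, fun a ha => ?_⟩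
  · rw [← Matrix.det_mul, h1, Matrix.det_one]
  · have hxM : ∀ i, x i ∈ Submodule.span k (Set.range fun p : Fin _ × Fin _ => M p.1 p.2) := by
      intro i
      have h : ∑ j, CoalgebraStruct.counit (R := k) (x j) • C i j = x i := by
        have h := Coalgebra.rTensor_counit_comul (R := k) (x i)
        apply_fun (TensorProduct.lid k A) at h
        rw [show Coalgebra.comul (R := k) (x i) = ∑ j, x j ⊗ₜ[k] C i j from hx i] at h
        simpa [map_sum] using h
      rw [← h]
      exact Submodule.sum_mem _ fun j _ => Submodule.smul_mem _ _ (Submodule.subset_span ⟨(j, i), rfl⟩)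
    have ha' : a ∈ V := Submodule.subset_span ha
    have h5 := Module.Basis.sum_repr b ⟨a, ha'⟩
    apply_fun (Subtype.val) at h5
    rw [show a = ((⟨a, ha'⟩ : V) : A) from rfl, ← h5]
    push_cast
    exact Submodule.sum_mem _ fun j _ => Submodule.smul_mem _ _ (hxM j)

/-- A multiplicative matrix with invertible determinant gives a bialgebra map out of `GL_n`. -/
theorem exists_bialgHom_GLn {n : ℕ} (M : Matrix (Fin n) (Fin n) A) (d : A) (hd : M.det * d = 1)
    (h0 : ∀ i j, CoalgebraStruct.comul (R := k) (M i j) = ∑ l, M i l ⊗ₜ[k] M l j)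
    (h2 : ∀ i j, CoalgebraStruct.counit (R := k) (M i j) = if i = j then 1 else 0) :
    ∃ π : CoordGrp.GLn n k →ₐc[k] A, ∀ i j, π (CoordGrp.GLn.X i j) = M i j := by
  let iL : A →ₐ[k] A ⊗[k] A := Algebra.TensorProduct.includeLeft
  let iR : A →ₐ[k] A ⊗[k] A := Algebra.TensorProduct.includeRight
  have hM : (Bialgebra.comulAlgHom k A).mapMatrix M = iL.mapMatrix M * iR.mapMatrix M := by
    ext i j
    simp only [AlgHom.mapMatrix_apply, Matrix.map_apply, Matrix.mul_apply]
    change CoalgebraStruct.comul (R := k) (M i j) = _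
    rw [h0]
    simp [iL, iR]
  have hdet : Bialgebra.comulAlgHom k A M.det = iL M.det * iR M.det := by
    rw [AlgHom.map_det, AlgHom.map_det, AlgHom.map_det, hM, Matrix.det_mul]
  have hdc : Bialgebra.comulAlgHom k A d = d ⊗ₜ[k] d := by
    have e1 : Bialgebra.comulAlgHom k A M.det * Bialgebra.comulAlgHom k A d = 1 := by rw [← map_mul, hd, map_one]
    have e2 : (d ⊗ₜ[k] d) * Bialgebra.comulAlgHom k A M.det = 1 := by
      rw [hdet]
      simp [iL, iR, Algebra.TensorProduct.tmul_mul_tmul, mul_comm d, hd, Algebra.TensorProduct.one_def]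
    exact (left_inv_eq_right_inv e2 e1).symm
  have hε : Bialgebra.counitAlgHom k A d = 1 := by
    have e1 : Bialgebra.counitAlgHom k A M.det * Bialgebra.counitAlgHom k A d = 1 := by rw [← map_mul, hd, map_one]
    have e2 : (Bialgebra.counitAlgHom k A).mapMatrix M = 1 := by
      ext i j
      simp only [AlgHom.mapMatrix_apply, Matrix.map_apply, Matrix.one_apply]
      exact h2 i j
    rwa [AlgHom.map_det, e2, Matrix.det_one, one_mul] at e1
  let π₀ := CoordGrp.GLn.pt n k M d hd
  refine ⟨BialgHom.ofAlgHom π₀ ?_ ?_, fun i j => CoordGrp.GLn.pt_X M d hd i j⟩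
  · refine CoordGrp.GLn.algHom_ext (fun i j => ?_) ?_
    · simp only [AlgHom.comp_apply, π₀, CoordGrp.GLn.pt_X, Bialgebra.counitAlgHom_apply]
      exact (h2 i j).trans (CoordGrp.GLn.counit_X i j).symm
    · simp only [AlgHom.comp_apply, π₀, CoordGrp.GLn.pt_Dinv]
      exact hε.trans CoordGrp.GLn.counit_Dinv.symm
  · refine CoordGrp.GLn.algHom_ext (fun i j => ?_) ?_
    · simp only [AlgHom.comp_apply, Bialgebra.comulAlgHom_apply, π₀, CoordGrp.GLn.pt_X]
      rw [show Coalgebra.comul (R := k) (CoordGrp.GLn.X i j : CoordGrp.GLn n k) = _ from CoordGrp.GLn.comul_X i j,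
        show Coalgebra.comul (R := k) (M i j) = _ from h0 i j, map_sum]
      simp [CoordGrp.GLn.pt_X]
    · simp only [AlgHom.comp_apply, π₀, CoordGrp.GLn.pt_Dinv]
      rw [hdc, Bialgebra.comulAlgHom_apply,
        show Coalgebra.comul (R := k) (CoordGrp.GLn.Dinv : CoordGrp.GLn n k) = _ from CoordGrp.GLn.comul_Dinv]
      simp [CoordGrp.GLn.pt_Dinv]

/-- Every affine algebraic group is linear. -/
theorem exists_surjective_GLn [Algebra.FiniteType k A] :
    ∃ (n : ℕ) (π : CoordGrp.GLn n k →ₐc[k] A), Function.Surjective π := by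
  obtain ⟨s, hs⟩ := (inferInstance : Algebra.FiniteType k A).out
  obtain ⟨n, M, d, hd, h0, h2, hmem⟩ := exists_coord_matrix (k := k) s
  obtain ⟨π, hπ⟩ := exists_bialgHom_GLn M d hd h0 h2
  refine ⟨n, π, fun a => ?_⟩
  have key : Algebra.adjoin k (s : Set A) ≤ (π : CoordGrp.GLn n k →ₐ[k] A).range := by
    refine Algebra.adjoin_le fun b hb => ?_
    have h : Submodule.span k (Set.range fun p : Fin n × Fin n => M p.1 p.2) ≤
        Subalgebra.toSubmodule (π : CoordGrp.GLn n k →ₐ[k] A).range := by
      refine Submodule.span_le.mpr ?_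
      rintro _ ⟨p, rfl⟩
      exact ⟨CoordGrp.GLn.X p.1 p.2, hπ p.1 p.2⟩
    exact h (hmem b hb)
  rw [hs] at key
  exact key (Algebra.mem_top (x := a))

end Groth.Agent.HopfFF
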