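import Groth.Agent.HopfFF.Image
import Groth.Agent.Comodule.Coalg

/-! Coinvariants of the quotient by the augmentation ideal of a Hopf subalgebra. -/

set_option autoImplicit false
universe u v

open TensorProduct WithConv

noncomputable section

namespace Groth.Agent.HopfFF

open Groth.Agent.Comodule

variable {k : Type u} [Field k] {A : Type v} [CommRing A] [HopfAlgebra k A] (B : Subalgebra k A)

/-- The left inclusion in `A ⊗[B] A`. -/
def inB₁ : A →ₐ[k] A ⊗[B] A :=
  ((Algebra.TensorProduct.includeLeft : A →ₐ[B] A ⊗[B] A)).restrictScalars k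

/-- The right inclusion in `A ⊗[B] A`. -/
def inB₂ : A →ₐ[k] A ⊗[B] A :=
  ((Algebra.TensorProduct.includeRight : A →ₐ[B] A ⊗[B] A)).restrictScalars k

theorem lift_comp_comul {T : Type v} [CommRing T] [Algebra k T] (f g : A →ₐ[k] T) :
    toConv ((Algebra.TensorProduct.lift f g fun _ _ => Commute.all _ _).comp (Bialgebra.comulAlgHom k A)) =
      toConv f * toConv g := by
  refine WithConv.ext (AlgHom.ext fun a => ?_)
  rw [AlgHom.convMul_apply]
  simp only [AlgHom.comp_apply, Bialgebra.comulAlgHom_apply]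

theorem comp_antipode_left {T : Type v} [CommRing T] [Algebra k T] (f : A →ₐ[k] T) :
    toConv (f.comp (HopfAlgebra.antipodeAlgHom k A)) * toConv f = 1 := by
  refine WithConv.ofConv_injective (AlgHom.ext fun a => ?_)
  rw [AlgHom.convMul_apply, AlgHom.convOne_apply, ← f.commutes (Coalgebra.counit (R := k) a),
    ← HopfAlgebra.mul_antipode_rTensor_comul_apply (R := k) a]
  induction Coalgebra.comul (R := k) a with
  | zero => simp
  | tmul x y => simp
  | add x y hx hy => simp only [map_add, hx, hy]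

theorem comp_antipode_right {T : Type v} [CommRing T] [Algebra k T] (f : A →ₐ[k] T) :
    toConv f * toConv (f.comp (HopfAlgebra.antipodeAlgHom k A)) = 1 := by
  refine WithConv.ofConv_injective (AlgHom.ext fun a => ?_)
  rw [AlgHom.convMul_apply, AlgHom.convOne_apply, ← f.commutes (Coalgebra.counit (R := k) a),
    ← HopfAlgebra.mul_antipode_lTensor_comul_apply (R := k) a]
  induction Coalgebra.comul (R := k) a with
  | zero => simp
  | tmul x y => simp
  | add x y hx hy => simp only [map_add, hx, hy]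

theorem mul_twist {T : Type v} [CommRing T] [Algebra k T] (f g : A →ₐ[k] T) :
    toConv f * toConv (toConv (f.comp (HopfAlgebra.antipodeAlgHom k A)) * toConv g).ofConv = toConv g := by
  rw [WithConv.toConv_ofConv, ← mul_assoc, comp_antipode_right, one_mul]

theorem twist_mul {T : Type v} [CommRing T] [Algebra k T] (f g : A →ₐ[k] T) :
    toConv (toConv f * toConv (g.comp (HopfAlgebra.antipodeAlgHom k A))).ofConv * toConv g = toConv f := by
  rw [WithConv.toConv_ofConv, mul_assoc, comp_antipode_left, mul_one]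

/-- `a ↦ S a₁ ⊗ a₂` in `A ⊗[B] A`. -/
def twistR : A →ₐ[k] A ⊗[B] A := (toConv ((inB₁ B).comp (HopfAlgebra.antipodeAlgHom k A)) * toConv (inB₂ B)).ofConv

/-- `a ↦ a₁ ⊗ S a₂` in `A ⊗[B] A`. -/
def twistL : A →ₐ[k] A ⊗[B] A := (toConv (inB₁ B) * toConv ((inB₂ B).comp (HopfAlgebra.antipodeAlgHom k A))).ofConv

variable {B}

theorem move (b : B) (p : A) : p ⊗ₜ[B] (b : A) = ((b : A) * p) ⊗ₜ[B] (1 : A) := by
  have h : (b : A) = b • (1 : A) := by rw [Subalgebra.smul_def, smul_eq_mul, mul_one]
  conv_lhs => rw [h, ← TensorProduct.smul_tmul]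
  rw [Subalgebra.smul_def, smul_eq_mul]

theorem move' (b : B) (p : A) : (b : A) ⊗ₜ[B] p = (1 : A) ⊗ₜ[B] ((b : A) * p) := by
  have h : (b : A) = b • (1 : A) := by rw [Subalgebra.smul_def, smul_eq_mul, mul_one]
  conv_lhs => rw [h, TensorProduct.smul_tmul]
  rw [Subalgebra.smul_def, smul_eq_mul]

theorem twistR_apply (hB : IsHopfSub B) {b : A} (hb : b ∈ B) :
    twistR B b = algebraMap k (A ⊗[B] A) (Coalgebra.counit (R := k) b) := by
  obtain ⟨z, hz⟩ := hB.1 b hb
  have h0 := HopfAlgebra.mul_antipode_rTensor_comul_apply (R := k) b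
  rw [← hz] at h0
  have h1 : twistR B b = inB₁ B (LinearMap.mul' k A ((HopfAlgebra.antipode k).rTensor A
      (TensorProduct.map B.val.toLinearMap B.val.toLinearMap z))) := by
    rw [twistR, AlgHom.convMul_apply, show Coalgebra.comul (R := k) b = _ from hz.symm]
    clear h0 hz
    induction z with
    | zero => simp
    | add p q hp hq => simp only [map_add, hp, hq]
    | tmul p q =>
      simp [inB₁, inB₂, move, mul_comm]
  rw [h1, h0, AlgHom.commutes]

theorem twistL_apply (hB : IsHopfSub B) {b : A} (hb : b ∈ B) :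
    twistL B b = algebraMap k (A ⊗[B] A) (Coalgebra.counit (R := k) b) := by
  obtain ⟨z, hz⟩ := hB.1 b hb
  have h0 := HopfAlgebra.mul_antipode_lTensor_comul_apply (R := k) b
  rw [← hz] at h0
  have h1 : twistL B b = inB₂ B (LinearMap.mul' k A ((HopfAlgebra.antipode k).lTensor A
      (TensorProduct.map B.val.toLinearMap B.val.toLinearMap z))) := by
    rw [twistL, AlgHom.convMul_apply, show Coalgebra.comul (R := k) b = _ from hz.symm]
    clear h0 hz
    induction z with
    | zero => simp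
    | add p q hp hq => simp only [map_add, hp, hq]
    | tmul p q =>
      simp [inB₁, inB₂, move']
  rw [h1, h0, AlgHom.commutes]

/-- An element with `1 ⊗ a = a ⊗ 1` over a Hopf subalgebra lies in it. -/
theorem mem_of_tmul_eq (hB : IsHopfSub B) {a : A} (h : (1 : A) ⊗ₜ[B] a = a ⊗ₜ[B] (1 : A)) : a ∈ B := by
  haveI := faithfullyFlat_of_hopfSub hB
  let W : Submodule B A := LinearMap.range (Algebra.linearMap B A)
  have h1 : (1 : A) ⊗ₜ[B] (W.mkQ a) = 0 := by
    have h2 := congrArg (W.mkQ.lTensor A) h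
    rw [LinearMap.lTensor_tmul, LinearMap.lTensor_tmul] at h2
    have h3 : W.mkQ (1 : A) = 0 := (Submodule.Quotient.mk_eq_zero W).mpr ⟨1, by simp⟩
    rw [h3, TensorProduct.tmul_zero] at h2
    exact h2
  rw [Module.FaithfullyFlat.one_tmul_eq_zero_iff, Submodule.mkQ_apply, Submodule.Quotient.mk_eq_zero] at h1
  obtain ⟨b, rfl⟩ := h1
  exact b.2

variable {I : Ideal A}

/-- Right invariants of `A / I` lie in `B` when `I` is generated by augmentation elements of `B`. -/
theorem mem_of_right_coinv (hB : IsHopfSub B)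
    (hI : I ≤ Ideal.span {b : A | b ∈ B ∧ Coalgebra.counit (R := k) b = 0}) {a : A}
    (ha : (Ideal.Quotient.mkₐ k I).toLinearMap.lTensor A (Coalgebra.comul (R := k) a) = a ⊗ₜ[k] (1 : A ⧸ I)) :
    a ∈ B := by
  refine mem_of_tmul_eq hB ?_
  let Ψ : A ⊗[k] A →ₐ[k] A ⊗[B] A :=
    Algebra.TensorProduct.lift (inB₁ B) (twistR B) fun _ _ => Commute.all _ _
  have hΨ : Ψ (Coalgebra.comul (R := k) a) = (1 : A) ⊗ₜ[B] a := by
    have h1 := lift_comp_comul (inB₁ B) (twistR B)
    replace h1 := h1.trans (mul_twist (inB₁ B) (inB₂ B))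
    exact AlgHom.congr_fun (congrArg WithConv.ofConv h1) a
  have hker : I.map (Algebra.TensorProduct.includeRight : A →ₐ[k] A ⊗[k] A) ≤ RingHom.ker Ψ := by
    rw [Ideal.map_le_iff_le_comap]
    refine hI.trans (Ideal.span_le.mpr ?_)
    rintro b ⟨hb, hb0⟩
    simp [Ψ, twistR_apply hB hb, hb0]
  have hmem : Coalgebra.comul (R := k) a - a ⊗ₜ[k] (1 : A) ∈
      I.map (Algebra.TensorProduct.includeRight : A →ₐ[k] A ⊗[k] A) := by
    have h2 : Coalgebra.comul (R := k) a - a ⊗ₜ[k] (1 : A) ∈
        LinearMap.ker ((Ideal.Quotient.mkₐ k I).toLinearMap.lTensor A) := by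
      rw [LinearMap.mem_ker, map_sub, ha, LinearMap.lTensor_tmul]
      simp
    have hex : Function.Exact (I.restrictScalars k).subtype (Ideal.Quotient.mkₐ k I).toLinearMap := fun x => by
      simp [Ideal.Quotient.eq_zero_iff_mem]
    obtain ⟨y, hy⟩ := ((lTensor_exact A hex Ideal.Quotient.mk_surjective) _).mp h2
    have h3 : Coalgebra.comul (R := k) a - a ⊗ₜ[k] (1 : A) ∈
        Submodule.restrictScalars k (I.map (Algebra.TensorProduct.includeRight : A →ₐ[k] A ⊗[k] A)) := by
      rw [Ideal.map_includeRight_eq]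
      exact ⟨y, hy⟩
    exact h3
  have h := hker hmem
  rw [RingHom.mem_ker, map_sub, hΨ, sub_eq_zero] at h
  simpa [Ψ, inB₁] using h

/-- Left invariants of `A / I` lie in `B` when `I` is generated by augmentation elements of `B`. -/
theorem mem_of_left_coinv (hB : IsHopfSub B)
    (hI : I ≤ Ideal.span {b : A | b ∈ B ∧ Coalgebra.counit (R := k) b = 0}) {a : A}
    (ha : (Ideal.Quotient.mkₐ k I).toLinearMap.rTensor A (Coalgebra.comul (R := k) a) = (1 : A ⧸ I) ⊗ₜ[k] a) :
    a ∈ B := by
  refine mem_of_tmul_eq hB ?_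
  let Ψ : A ⊗[k] A →ₐ[k] A ⊗[B] A :=
    Algebra.TensorProduct.lift (twistL B) (inB₂ B) fun _ _ => Commute.all _ _
  have hΨ : Ψ (Coalgebra.comul (R := k) a) = a ⊗ₜ[B] (1 : A) := by
    have h1 := lift_comp_comul (twistL B) (inB₂ B)
    replace h1 := h1.trans (twist_mul (inB₁ B) (inB₂ B))
    exact AlgHom.congr_fun (congrArg WithConv.ofConv h1) a
  have hker : I.map (Algebra.TensorProduct.includeLeft : A →ₐ[k] A ⊗[k] A) ≤ RingHom.ker Ψ := by
    rw [Ideal.map_le_iff_le_comap]
    refine hI.trans (Ideal.span_le.mpr ?_)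
    rintro b ⟨hb, hb0⟩
    simp [Ψ, twistL_apply hB hb, hb0]
  have hmem : Coalgebra.comul (R := k) a - (1 : A) ⊗ₜ[k] a ∈
      I.map (Algebra.TensorProduct.includeLeft : A →ₐ[k] A ⊗[k] A) := by
    have h2 : Coalgebra.comul (R := k) a - (1 : A) ⊗ₜ[k] a ∈
        LinearMap.ker ((Ideal.Quotient.mkₐ k I).toLinearMap.rTensor A) := by
      rw [LinearMap.mem_ker, map_sub, ha, LinearMap.rTensor_tmul]
      simp
    have hex : Function.Exact (I.restrictScalars k).subtype (Ideal.Quotient.mkₐ k I).toLinearMap := fun x => by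
      simp [Ideal.Quotient.eq_zero_iff_mem]
    obtain ⟨y, hy⟩ := ((rTensor_exact A hex Ideal.Quotient.mk_surjective) _).mp h2
    have h3 : Coalgebra.comul (R := k) a - (1 : A) ⊗ₜ[k] a ∈
        Submodule.restrictScalars k (I.map (Algebra.TensorProduct.includeLeft : A →ₐ[k] A ⊗[k] A)) := by
      rw [Ideal.map_includeLeft_eq]
      exact ⟨y, hy⟩
    exact h3
  have h := hker hmem
  rw [RingHom.mem_ker, map_sub, hΨ, sub_eq_zero] at h
  simpa [Ψ, inB₂] using h.symm

end Groth.Agent.HopfFF
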