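import Mathlib

/-! A submodule of `B ^ n` all whose ideals of minors are trivial is a direct summand. -/

set_option autoImplicit false

open Matrix

noncomputable section

namespace Groth.Agent.HopfFF

variable {B : Type*} [CommRing B] {n : ℕ}

/-- The ideal of `m`-minors of the vectors in `R`. -/
def minorIdeal (R : Submodule B (Fin n → B)) (m : ℕ) : Ideal B :=
  Ideal.span {d | ∃ (ρ : Fin m → Fin n → B) (c : Fin m → Fin n), (∀ i, ρ i ∈ R) ∧
    d = Matrix.det (Matrix.of fun i j => ρ i (c j))}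

theorem minorIdeal_zero (R : Submodule B (Fin n → B)) : minorIdeal R 0 = ⊤ :=
  (Ideal.eq_top_iff_one _).mpr <| Ideal.subset_span ⟨Fin.elim0, Fin.elim0, fun i => i.elim0, by simp⟩

theorem minorIdeal_eq_bot (R : Submodule B (Fin n → B)) {m : ℕ} (hm : n < m) : minorIdeal R m = ⊥ := by
  refine Ideal.span_eq_bot.mpr ?_
  rintro d ⟨ρ, c, -, rfl⟩
  obtain ⟨i, j, hij, hc⟩ := Fintype.exists_ne_map_eq_of_card_lt c (by simpa using hm)
  exact Matrix.det_zero_of_column_eq hij fun a => by simp [hc]

/-- A linear map into `R` restricting to multiplication by `d ^ 2`. -/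
theorem exists_map_of_minor {R : Submodule B (Fin n → B)} {s : ℕ} (hs : minorIdeal R (s + 1) = ⊥)
    (ρ : Fin s → Fin n → B) (c : Fin s → Fin n) (hρ : ∀ i, ρ i ∈ R) :
    ∃ P : (Fin n → B) →ₗ[B] (Fin n → B), (∀ v, P v ∈ R) ∧
      ∀ v ∈ R, P v = (Matrix.det (Matrix.of fun i j => ρ i (c j))) ^ 2 • v := by
  classical
  set M : Matrix (Fin s) (Fin s) B := Matrix.of fun i j => ρ i (c j) with hM
  let y : (Fin n → B) →ₗ[B] (Fin s → B) := M.adjugate.vecMulLinear ∘ₗ LinearMap.funLeft B B c
  let Q : (Fin n → B) →ₗ[B] (Fin n → B) := (Fintype.linearCombination B ρ) ∘ₗ y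
  have hQR : ∀ v, Q v ∈ R := fun v => by
    simp only [Q, LinearMap.comp_apply, Fintype.linearCombination_apply]
    exact R.sum_mem fun i _ => R.smul_mem _ (hρ i)
  refine ⟨M.det • Q, fun v => R.smul_mem _ (hQR v), fun v hv => ?_⟩
  set w : Fin n → B := M.det • v - Q v with hw
  have hwR : w ∈ R := R.sub_mem (R.smul_mem _ hv) (hQR v)
  have hwc : ∀ j, w (c j) = 0 := fun j => by
    have h1 : (y v ᵥ* M) j = M.det * v (c j) := by
      simp only [y, LinearMap.comp_apply, Matrix.vecMulLinear_apply, Matrix.vecMul_vecMul,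
        Matrix.adjugate_mul, Matrix.vecMul_smul, Matrix.vecMul_one]
      rfl
    have h2 : Q v (c j) = (y v ᵥ* M) j := by
      simp only [Q, LinearMap.comp_apply, Fintype.linearCombination_apply, Matrix.vecMul, dotProduct,
        Finset.sum_apply, Pi.smul_apply, smul_eq_mul, hM, Matrix.of_apply]
    simp only [hw, Pi.sub_apply, Pi.smul_apply, smul_eq_mul, h2, h1, sub_self]
  have hzero : M.det • w = 0 := by
    funext l
    let ρ' : Fin (s + 1) → Fin n → B := Fin.cons w ρ
    let c' : Fin (s + 1) → Fin n := Fin.cons l c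
    have hmem : Matrix.det (Matrix.of fun i j => ρ' i (c' j)) ∈ minorIdeal R (s + 1) :=
      Ideal.subset_span ⟨ρ', c', fun i => Fin.cases hwR hρ i, rfl⟩
    rw [hs, Ideal.mem_bot, Matrix.det_succ_row_zero, Finset.sum_eq_single 0] at hmem
    · have hsub : (Matrix.of fun i j => ρ' i (c' j)).submatrix Fin.succ ((0 : Fin (s + 1)).succAbove) = M := by
        ext i j
        simp [ρ', c', hM, Fin.succAbove_zero]
      rw [hsub] at hmem
      simpa [ρ', c', mul_comm] using hmem
    · intro j _ hj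
      obtain ⟨j, rfl⟩ := Fin.exists_succ_eq.mpr hj
      simp [ρ', c', hwc]
    · simp
  have : M.det • (M.det • v) - M.det • Q v = 0 := by rw [← smul_sub]; exact hzero
  rw [sub_eq_zero, smul_smul, ← pow_two] at this
  exact this.symm

/-- If all ideals of minors are trivial, the submodule is a direct summand. -/
theorem exists_retraction (R : Submodule B (Fin n → B))
    (h : ∀ m, minorIdeal R m = ⊥ ∨ minorIdeal R m = ⊤) :
    ∃ P : (Fin n → B) →ₗ[B] (Fin n → B), (∀ v, P v ∈ R) ∧ ∀ v ∈ R, P v = v := by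
  classical
  rcases subsingleton_or_nontrivial B with hB | hB
  · exact ⟨0, fun v => R.zero_mem, fun v _ => Subsingleton.elim _ _⟩
  have hex : ∃ m, minorIdeal R m = ⊥ := ⟨n + 1, minorIdeal_eq_bot R (Nat.lt_succ_self n)⟩
  obtain ⟨s, hs⟩ : ∃ s, Nat.find hex = s + 1 := by
    refine Nat.exists_eq_succ_of_ne_zero fun h0 => ?_
    have := Nat.find_spec hex
    rw [h0, minorIdeal_zero] at this
    exact top_ne_bot this
  have hbot : minorIdeal R (s + 1) = ⊥ := hs ▸ Nat.find_spec hex
  have htop : minorIdeal R s = ⊤ := (h s).resolve_left (Nat.find_min hex (by omega))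
  let T : Ideal B :=
    { carrier := {d | ∃ P : (Fin n → B) →ₗ[B] (Fin n → B), (∀ v, P v ∈ R) ∧ ∀ v ∈ R, P v = d • v}
      add_mem' := by
        rintro a b ⟨P, hP, hPv⟩ ⟨Q, hQ, hQv⟩
        exact ⟨P + Q, fun v => R.add_mem (hP v) (hQ v),
          fun v hv => by simp [hPv v hv, hQv v hv, add_smul]⟩
      zero_mem' := ⟨0, fun v => R.zero_mem, fun v _ => by simp⟩
      smul_mem' := by
        rintro a b ⟨P, hP, hPv⟩
        exact ⟨a • P, fun v => R.smul_mem a (hP v), fun v hv => by simp [hPv v hv, smul_smul]⟩ }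
  have hT : T = ⊤ := by
    rw [← top_le_iff, ← Ideal.span_pow_eq_top _ htop 2, Ideal.span_le]
    rintro _ ⟨d, ⟨ρ, c, hρ, rfl⟩, rfl⟩
    exact exists_map_of_minor hbot ρ c hρ
  obtain ⟨P, hP, hPv⟩ := (Ideal.eq_top_iff_one _).mp hT
  exact ⟨P, hP, fun v hv => by rw [hPv v hv, one_smul]⟩

/-- Minors of combinations of extended vectors lie in the extended ideal. -/
theorem det_mem_map {B' : Type*} [CommRing B'] (φ : B →+* B') (R : Submodule B (Fin n → B)) {m : ℕ}
    (ρ' : Fin m → Fin n → B')
    (hρ : ∀ i, ρ' i ∈ Submodule.span B' {x | ∃ r ∈ R, x = φ ∘ r}) (C : Matrix (Fin n) (Fin n) B')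
    (c : Fin m → Fin n) :
    Matrix.det (Matrix.of fun i j => (ρ' i ᵥ* C) (c j)) ∈ (minorIdeal R m).map φ := by
  classical
  have step1 : ∀ e : Fin m → Fin n,
      Matrix.det (Matrix.of fun i j => ρ' i (e j)) ∈ (minorIdeal R m).map φ := by
    intro e
    choose N a g hg using fun i => Submodule.mem_span_set'.mp (hρ i)
    have hrows : (Matrix.of fun i j => ρ' i (e j)) =
        fun i => ∑ t : Fin (N i), a i t • fun j => (g i t : Fin n → B') (e j) := by
      funext i j
      simp [← hg i, Finset.sum_apply]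
    change Matrix.detRowAlternating (Matrix.of fun i j => ρ' i (e j)) ∈ _
    rw [hrows, ← AlternatingMap.coe_multilinearMap, MultilinearMap.map_sum]
    refine Submodule.sum_mem _ fun p _ => ?_
    rw [MultilinearMap.map_smul_univ]
    refine Ideal.mul_mem_left _ _ ?_
    choose r hr hrg using fun i => (g i (p i)).2
    have : (fun i => fun j => (g i (p i) : Fin n → B') (e j)) =
        (Matrix.of fun i j => r i (e j)).map φ := by
      funext i j
      simp [hrg i, Matrix.map_apply]
    rw [this, AlternatingMap.coe_multilinearMap]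
    change Matrix.det _ ∈ _
    rw [← RingHom.mapMatrix_apply, ← RingHom.map_det]
    exact Ideal.mem_map_of_mem φ (Ideal.subset_span ⟨r, e, hr, rfl⟩)
  rw [← Matrix.det_transpose]
  have hcols : (Matrix.of fun i j => (ρ' i ᵥ* C) (c j))ᵀ =
      fun j => ∑ l : Fin n, C l (c j) • fun i => ρ' i l := by
    funext j i
    simp [Matrix.transpose_apply, Matrix.vecMul, dotProduct, Finset.sum_apply, mul_comm]
  change Matrix.detRowAlternating ((Matrix.of fun i j => (ρ' i ᵥ* C) (c j))ᵀ) ∈ _
  rw [hcols, ← AlternatingMap.coe_multilinearMap, MultilinearMap.map_sum]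
  refine Submodule.sum_mem _ fun p _ => ?_
  rw [MultilinearMap.map_smul_univ]
  refine Ideal.mul_mem_left _ _ ?_
  have := step1 p
  rw [← Matrix.det_transpose] at this
  exact this

end Groth.Agent.HopfFF
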