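import Groth.Prelude.Def_HopfRep
import Groth.Agent.Comodule.Coalg
import Groth.Agent.HopfFF.Minors

/-! A commutative Hopf algebra over a field is faithfully flat over every Hopf subalgebra.

The proof: an ideal of `B` stable under the coaction is `0` or `B`; so all ideals of minors of the relations
among the basis of a finite subcomodule are trivial, and the relations form a direct summand. -/

set_option autoImplicit false
universe u v

open TensorProduct WithConv Matrix

noncomputable section

namespace Groth.Agent.HopfFF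

open Groth.Agent.Comodule

variable {k : Type u} [Field k] {A : Type v} [CommRing A] [HopfAlgebra k A] (B : Subalgebra k A)

/-- The inclusion of `B ⊗ A` in `A ⊗ A`. -/
def inclT : B ⊗[k] A →ₐ[k] A ⊗[k] A := Algebra.TensorProduct.map B.val (AlgHom.id k A)

theorem inclT_eq (z : B ⊗[k] A) : inclT B z = B.val.toLinearMap.rTensor A z := rfl

theorem inclT_injective : Function.Injective (inclT B) :=
  Module.Flat.rTensor_preserves_injective_linearMap (M := A) B.val.toLinearMap Subtype.val_injective

/-- `B` is stable under the comultiplication and the antipode. -/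
def IsHopfSub : Prop :=
  (∀ b ∈ B, CoalgebraStruct.comul (R := k) (A := A) b ∈
      LinearMap.range (TensorProduct.map B.val.toLinearMap B.val.toLinearMap)) ∧
    ∀ b ∈ B, HopfAlgebraStruct.antipode (R := k) (A := A) b ∈ B

variable {B} (hB : IsHopfSub B)

/-- The coaction of `A` on `B`. -/
def coB : B →ₐ[k] B ⊗[k] A :=
  (AlgEquiv.ofInjective (inclT B) (inclT_injective B)).symm.toAlgHom.comp
    (((Bialgebra.comulAlgHom k A).comp B.val).codRestrict (inclT B).range fun b => by
      obtain ⟨z, hz⟩ := hB.1 b b.2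
      refine ⟨B.val.toLinearMap.lTensor B z, ?_⟩
      change inclT B (B.val.toLinearMap.lTensor B z) = _
      rw [inclT_eq, ← LinearMap.comp_apply, LinearMap.rTensor_comp_lTensor]
      exact hz)

theorem inclT_coB (b : B) : inclT B (coB hB b) = CoalgebraStruct.comul (R := k) (b : A) :=
  congrArg Subtype.val ((AlgEquiv.ofInjective (inclT B) (inclT_injective B)).apply_symm_apply
    (((Bialgebra.comulAlgHom k A).comp B.val).codRestrict (inclT B).range _ b))

include hB in
/-- A stable ideal of `B` is trivial. -/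
theorem stable_eq_bot_or_top (J : Ideal B)
    (hJ : ∀ x ∈ J, coB hB x ∈ J.map (Algebra.TensorProduct.includeLeft : B →ₐ[k] B ⊗[k] A)) :
    J = ⊥ ∨ J = ⊤ := by
  classical
  let J' : Submodule k A := (J.restrictScalars k).map B.val.toLinearMap
  let B' : Submodule k A := Subalgebra.toSubmodule B
  have hmem : ∀ x ∈ J, CoalgebraStruct.comul (R := k) (x : A) ∈
      LinearMap.range (TensorProduct.map J'.subtype B'.subtype) := by
    intro x hx
    refine mem_range_map_iff.mpr ⟨mem_range_rTensor_iff.mpr fun f => ?_, ?_⟩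
    · have h1 : coB hB x ∈ Submodule.restrictScalars k
          (J.map (Algebra.TensorProduct.includeLeft : B →ₐ[k] B ⊗[k] A)) := hJ x hx
      rw [Ideal.map_includeLeft_eq] at h1
      obtain ⟨z, hz⟩ := h1
      rw [← inclT_coB hB, inclT_eq, ← hz, rcon_rTensor, rcon_rTensor]
      exact Submodule.mem_map_of_mem (SetLike.coe_mem _)
    · obtain ⟨z, hz⟩ := hB.1 (x : A) x.2
      refine ⟨B.val.toLinearMap.rTensor B' z, ?_⟩
      rw [← hz, ← LinearMap.comp_apply, LinearMap.lTensor_comp_rTensor]
      rfl
  by_cases h : ∀ x ∈ J, Coalgebra.counit (R := k) (x : A) = 0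
  · left
    refine (Submodule.eq_bot_iff _).mpr fun x hx => Subtype.ext ?_
    obtain ⟨z, hz⟩ := hmem x hx
    have h1 : lcon (Coalgebra.counit (R := k)) (CoalgebraStruct.comul (R := k) (x : A)) = (x : A) :=
      lcon_counit_comul (x : A)
    rw [← h1, ← hz]
    have : ∀ z : J' ⊗[k] B', lcon (Coalgebra.counit (R := k) (A := A))
        (TensorProduct.map J'.subtype B'.subtype z) = 0 := by
      intro z
      induction z with
      | zero => simp
      | add a b ha hb => rw [map_add, map_add, ha, hb, add_zero]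
      | tmul a b =>
        obtain ⟨_, ⟨j, hj, rfl⟩⟩ := a
        simp [h j hj]
    exact this z
  · right
    push Not at h
    obtain ⟨x, hx, hx0⟩ := h
    obtain ⟨z, hz⟩ := hmem x hx
    have h1 := HopfAlgebra.mul_antipode_lTensor_comul_apply (R := k) (x : A)
    rw [← hz] at h1
    have : ∀ z : J' ⊗[k] B', LinearMap.mul' k A ((HopfAlgebra.antipode k).lTensor A
        (TensorProduct.map J'.subtype B'.subtype z)) ∈ J' := by
      intro z
      induction z with
      | zero => simp
      | add a b ha hb => simp only [map_add]; exact J'.add_mem ha hb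
      | tmul a b =>
        obtain ⟨_, ⟨j, hj, rfl⟩⟩ := a
        refine ⟨j * ⟨HopfAlgebra.antipode k (b : A), hB.2 _ b.2⟩, J.mul_mem_right _ hj, ?_⟩
        simp
    have h2 := this z
    rw [h1] at h2
    obtain ⟨j, hj, hje⟩ := h2
    have : j = algebraMap k B (Coalgebra.counit (R := k) (x : A)) := Subtype.ext (by simpa using hje)
    exact J.eq_top_of_isUnit_mem hj (this ▸ (isUnit_iff_ne_zero.mpr hx0).map _)

variable (W : Submodule k A)

/-- The `B`-relations modulo `W` among a family. -/
def rel (hW : ∀ b ∈ B, ∀ w ∈ W, b * w ∈ W) {n : ℕ} (x : Fin n → A) : Submodule B (Fin n → B) where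
  carrier := {b | ∑ i, (b i : A) * x i ∈ W}
  add_mem' := by
    intro a b ha hb
    simp only [Set.mem_setOf_eq, Pi.add_apply, Subalgebra.coe_add, add_mul, Finset.sum_add_distrib]
    exact W.add_mem ha hb
  zero_mem' := by simp
  smul_mem' := by
    intro c b hb
    simp only [Set.mem_setOf_eq, Pi.smul_apply, smul_eq_mul, Subalgebra.coe_mul, mul_assoc, ← Finset.mul_sum]
    exact hW _ c.2 _ hb

include hB in
/-- The minors of the relations modulo a stable subspace generate stable ideals. -/
theorem minor_stable (hW : ∀ b ∈ B, ∀ w ∈ W, b * w ∈ W) (hW' : HopfRep.IsSubcomod (k := k) (A := A) W)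
    {n : ℕ} (x : Fin n → A) (C D : Matrix (Fin n) (Fin n) A) (hCD : C * D = 1)
    (hx : ∀ i, CoalgebraStruct.comul (R := k) (x i) = ∑ j, x j ⊗ₜ[k] C i j) (m : ℕ) :
    ∀ a ∈ minorIdeal (rel W hW x) m, coB hB a ∈
      (minorIdeal (rel W hW x) m).map (Algebra.TensorProduct.includeLeft : B →ₐ[k] B ⊗[k] A) := by
  classical
  let R := rel W hW x
  let inc : B →+* B ⊗[k] A := (Algebra.TensorProduct.includeLeft : B →ₐ[k] B ⊗[k] A).toRingHom
  let inr : A →+* B ⊗[k] A := (Algebra.TensorProduct.includeRight : A →ₐ[k] B ⊗[k] A).toRingHom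
  have key : ∀ r ∈ R, ((coB hB) ∘ r) ᵥ* C.map inr ∈
      Submodule.span (B ⊗[k] A) {v | ∃ s ∈ R, v = inc ∘ s} := by
    intro r hr
    let ψ : (Fin n → B) →ₗ[k] A :=
      ∑ j, LinearMap.mulRight k (x j) ∘ₗ B.val.toLinearMap ∘ₗ LinearMap.proj j
    have hψ : ∀ b, ψ b = ∑ i, (b i : A) * x i := fun b => by simp [ψ, LinearMap.sum_apply]
    let single : Fin n → B →ₗ[k] (Fin n → B) := fun j => LinearMap.single k (fun _ => B) j
    let y : (Fin n → B) ⊗[k] A :=
      ∑ i, ∑ j, (single j).rTensor A (coB hB (r i) * ((1 : B) ⊗ₜ[k] C i j))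
    have hy1 : ∀ l, (LinearMap.proj l : (Fin n → B) →ₗ[k] B).rTensor A y =
        (((coB hB) ∘ r) ᵥ* C.map inr) l := by
      intro l
      simp only [y, map_sum, ← LinearMap.rTensor_comp_apply, Matrix.vecMul, dotProduct]
      refine Finset.sum_congr rfl fun i _ => ?_
      rw [Finset.sum_eq_single l]
      · have h1 : (LinearMap.proj l : (Fin n → B) →ₗ[k] B) ∘ₗ single l = LinearMap.id :=
          LinearMap.ext fun b => by simp [single]
        rw [h1, LinearMap.rTensor_id]
        rfl
      · intro j _ hj
        have h1 : (LinearMap.proj l : (Fin n → B) →ₗ[k] B) ∘ₗ single j = 0 :=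
          LinearMap.ext fun b => by simp [single, Pi.single_eq_of_ne hj.symm]
        rw [h1, LinearMap.rTensor_zero, LinearMap.zero_apply]
      · simp
    have hmul : ∀ (a : A) (z : B ⊗[k] A) (c : A),
        (LinearMap.mulRight k a ∘ₗ B.val.toLinearMap).rTensor A (z * ((1 : B) ⊗ₜ[k] c)) =
          inclT B z * (a ⊗ₜ[k] c) := by
      intro a z c
      induction z with
      | zero => simp
      | add p q hp hq => simp only [add_mul, map_add, hp, hq]
      | tmul p q => simp [inclT, Algebra.TensorProduct.tmul_mul_tmul]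
    have hy2 : ψ.rTensor A y = CoalgebraStruct.comul (R := k) (∑ i, (r i : A) * x i) := by
      simp only [y, map_sum, ← LinearMap.rTensor_comp_apply, Bialgebra.comul_mul, hx, Finset.mul_sum]
      refine Finset.sum_congr rfl fun i _ => Finset.sum_congr rfl fun j _ => ?_
      have h1 : ψ ∘ₗ single j = LinearMap.mulRight k (x j) ∘ₗ B.val.toLinearMap := LinearMap.ext fun b => by
        simp only [LinearMap.comp_apply, hψ]
        rw [Finset.sum_eq_single j (fun l _ hl => by simp [single, Pi.single_eq_of_ne hl])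
          (fun h => absurd (Finset.mem_univ j) h)]
        simp [single]
      rw [h1, hmul, inclT_coB]
    have hy3 : y ∈ LinearMap.range ((R.restrictScalars k).subtype.rTensor A) := by
      refine mem_range_rTensor_iff.mpr fun f => ?_
      change ∑ i, ((rcon f y) i : A) * x i ∈ W
      rw [← hψ, ← rcon_rTensor, hy2]
      exact mem_range_rTensor_iff.mp (hW' _ hr) f
    obtain ⟨z, hz⟩ := hy3
    have hz' : ((coB hB) ∘ r) ᵥ* C.map inr = fun l =>
        (LinearMap.proj l ∘ₗ (R.restrictScalars k).subtype).rTensor A z := by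
      funext l
      rw [← hy1, ← hz, ← LinearMap.rTensor_comp_apply]
    rw [hz']
    clear hz hz'
    induction z with
    | zero => simp only [map_zero]; exact Submodule.zero_mem _
    | add p q hp hq => simp only [map_add]; exact Submodule.add_mem _ hp hq
    | tmul p a =>
      have h1 : (fun l => (LinearMap.proj l ∘ₗ (R.restrictScalars k).subtype).rTensor A (p ⊗ₜ[k] a)) =
          ((1 : B) ⊗ₜ[k] a) • (inc ∘ (p : Fin n → B)) := by
        funext l
        simp [inc, Algebra.TensorProduct.tmul_mul_tmul]
      rw [h1]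
      exact Submodule.smul_mem _ _ (Submodule.subset_span ⟨p, p.2, rfl⟩)
  change minorIdeal R m ≤ Ideal.comap (coB hB)
    ((minorIdeal R m).map (Algebra.TensorProduct.includeLeft : B →ₐ[k] B ⊗[k] A))
  refine Ideal.span_le.mpr ?_
  rintro _ ⟨ρ, c, hρ, rfl⟩
  rw [SetLike.mem_coe, Ideal.mem_comap]
  have h1 : coB hB (Matrix.det (Matrix.of fun i j => ρ i (c j))) =
      Matrix.det (Matrix.of fun i j => ((((coB hB) ∘ ρ i) ᵥ* C.map inr) ᵥ* D.map inr) (c j)) := by
    rw [AlgHom.map_det]
    congr 1
    ext i j
    rw [Matrix.of_apply, Matrix.vecMul_vecMul, ← Matrix.map_mul, hCD, Matrix.map_one _ (map_zero inr) (map_one inr),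
      Matrix.vecMul_one]
    rfl
  rw [h1]
  exact det_mem_map inc R _ (fun i => key (ρ i) (hρ i)) (D.map inr) c

omit W in
theorem exists_basis_matrix (s : Finset A) :
    ∃ (n : ℕ) (x : Fin n → A) (C D : Matrix (Fin n) (Fin n) A), C * D = 1 ∧
      (∀ i, CoalgebraStruct.comul (R := k) (x i) = ∑ j, x j ⊗ₜ[k] C i j) ∧
      ∀ a ∈ s, a ∈ Submodule.span k (Set.range x) := by
  classical
  let V : Submodule k A := (Submodule.span (WithConv (A →ₗ[k] k)) (s : Set A)).restrictScalars k
  haveI : Module.Finite k V := finite_span_of_finite s.finite_toSet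
  have hV : HopfRep.IsSubcomod (k := k) (A := A) V := isSubcomod_restrictScalars _
  let b := Module.finBasis k V
  choose φ hφ using fun l => LinearMap.exists_extend (b.coord l)
  let x : Fin (Module.finrank k V) → A := fun i => (b i : A)
  let C : Matrix _ _ A := Matrix.of fun i l => coefMap (C := A) (φ l) (x i)
  have hx : ∀ i, CoalgebraStruct.comul (R := k) (x i) = ∑ j, x j ⊗ₜ[k] C i j := by
    intro i
    obtain ⟨z, hz⟩ := hV (x i) (b i).2
    have hrep : ∀ z : V ⊗[k] A, z = ∑ j, b j ⊗ₜ[k] lcon (b.coord j) z := by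
      intro z
      induction z with
      | zero => simp
      | add p q hp hq =>
        simp only [map_add, TensorProduct.tmul_add, Finset.sum_add_distrib]
        rw [← hp, ← hq]
      | tmul p a =>
        conv_lhs => rw [← b.sum_repr p, TensorProduct.sum_tmul]
        simp [TensorProduct.smul_tmul]
    change HopfRep.Comod.coact (k := k) (A := A) (x i) = _
    rw [← hz]
    conv_lhs => rw [hrep z]
    rw [map_sum]
    refine Finset.sum_congr rfl fun j _ => ?_
    rw [LinearMap.rTensor_tmul]
    congr 1
    change _ = lcon (φ j) (HopfRep.Comod.coact (k := k) (A := A) (x i))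
    rw [← hz, lcon_rTensor, hφ]
  refine ⟨_, x, C, C.map (HopfAlgebra.antipode k), ?_, hx, fun a ha => ?_⟩
  · refine mul_eq_one_comm.mp ?_
    ext i l
    have h0 : CoalgebraStruct.comul (R := k) (C i l) = ∑ j, C j l ⊗ₜ[k] C i j := by
      have h3 := LinearMap.congr_fun (isComodHom_restrictScalars (coefMap (C := A) (φ l))) (x i)
      simp only [LinearMap.comp_apply, LinearMap.coe_restrictScalars, coact_regular, hx, map_sum,
        LinearMap.rTensor_tmul] at h3
      exact h3
    have h1 := HopfAlgebra.mul_antipode_lTensor_comul_apply (R := k) (C i l)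
    rw [h0, map_sum, map_sum] at h1
    simp only [LinearMap.lTensor_tmul, LinearMap.mul'_apply] at h1
    have h2 : Coalgebra.counit (R := k) (C i l) = if i = l then 1 else 0 := by
      rw [show C i l = coefMap (C := A) (φ l) (x i) from rfl, counit_coefMap]
      have h4 := LinearMap.congr_fun (hφ l) (b i)
      simp only [LinearMap.comp_apply, Submodule.subtype_apply] at h4
      rw [h4, b.coord_apply, b.repr_self, Finsupp.single_apply]
    rw [h2] at h1
    simp only [Matrix.mul_apply, Matrix.map_apply, Matrix.one_apply]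
    rw [apply_ite (algebraMap k A), map_one, map_zero] at h1
    rw [← h1]
    exact Finset.sum_congr rfl fun j _ => mul_comm _ _
  · have ha' : a ∈ V := Submodule.subset_span ha
    have h1 : x = V.subtype ∘ b := rfl
    rw [h1, Set.range_comp, Submodule.span_image, b.span_eq, Submodule.map_top, Submodule.range_subtype]
    exact ha'

include hB in
/-- The relations modulo a stable subspace are a direct summand. -/
theorem exists_retraction_rel (hW : ∀ b ∈ B, ∀ w ∈ W, b * w ∈ W)
    (hW' : HopfRep.IsSubcomod (k := k) (A := A) W) {n : ℕ} (x : Fin n → A) (C D : Matrix (Fin n) (Fin n) A)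
    (hCD : C * D = 1) (hx : ∀ i, CoalgebraStruct.comul (R := k) (x i) = ∑ j, x j ⊗ₜ[k] C i j) :
    ∃ P : (Fin n → B) →ₗ[B] (Fin n → B), (∀ v, P v ∈ rel W hW x) ∧ ∀ v ∈ rel W hW x, P v = v :=
  exists_retraction _ fun m =>
    stable_eq_bot_or_top hB _ (minor_stable hB W hW hW' x C D hCD hx m)

omit W in
theorem exists_coeff {n : ℕ} {x : Fin n → A} {a : A} (ha : a ∈ Submodule.span k (Set.range x)) :
    ∃ β : Fin n → B, ∑ l, (β l : A) * x l = a := by
  obtain ⟨c, hc⟩ := (Submodule.mem_span_range_iff_exists_fun k).mp ha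
  exact ⟨fun l => algebraMap k B (c l), by simp only [← hc, Algebra.smul_def]; rfl⟩

include hB in
omit W in
theorem flat_of_hopfSub : Module.Flat B A := by
  classical
  refine Module.Flat.iff_forall_isTrivialRelation.mpr fun {l} {f} {a} hfa => ?_
  obtain ⟨n, x, C, D, hCD, hx, hmem⟩ := exists_basis_matrix (k := k) (Finset.univ.image a)
  choose β hβ using fun i => exists_coeff (B := B) (hmem (a i) (Finset.mem_image_of_mem _ (Finset.mem_univ i)))
  obtain ⟨P, hP, hPv⟩ := exists_retraction_rel hB ⊥ (fun b _ w hw => by simp [(Submodule.mem_bot k).mp hw])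
    isSubcomod_bot x C D hCD hx
  have hsum : ∀ v : Fin n → B, v ∈ rel ⊥ (fun b _ w hw => by simp [(Submodule.mem_bot k).mp hw]) x ↔
      ∑ j, (v j : A) * x j = 0 := fun v => Submodule.mem_bot k
  refine ⟨n, fun i => β i - P (β i), x, fun i => ?_, fun j => ?_⟩
  · simp only [Subalgebra.smul_def, smul_eq_mul, Pi.sub_apply, Subalgebra.coe_sub, sub_mul,
      Finset.sum_sub_distrib, (hsum _).mp (hP (β i)), sub_zero, hβ]
  · have hv : (∑ i, f i • β i) ∈ rel ⊥ (fun b _ w hw => by simp [(Submodule.mem_bot k).mp hw]) x := by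
      refine (hsum _).mpr ?_
      simp only [Finset.sum_apply, Pi.smul_apply, smul_eq_mul, AddSubmonoidClass.coe_finsetSum,
        Subalgebra.coe_mul, Finset.sum_mul]
      rw [Finset.sum_comm, ← hfa]
      refine Finset.sum_congr rfl fun i _ => ?_
      simp only [mul_assoc, ← Finset.mul_sum, hβ, Subalgebra.smul_def, smul_eq_mul]
    have h0 := congrFun (hPv _ hv) j
    simp only [map_sum, map_smul, Finset.sum_apply, Pi.smul_apply, smul_eq_mul] at h0
    simp only [Pi.sub_apply, mul_sub, Finset.sum_sub_distrib, ← h0, sub_self]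

include hB in
omit W in
/-- A Hopf algebra is faithfully flat over every Hopf subalgebra. -/
theorem faithfullyFlat_of_hopfSub : Module.FaithfullyFlat B A := by
  classical
  refine (Module.FaithfullyFlat.iff_flat_and_ideal_smul_eq_top B A).mpr ⟨flat_of_hopfSub hB, fun I hI => ?_⟩
  have h1 : (1 : A) ∈ I • Submodule.span B (Set.range (id : A → A)) := by
    rw [Set.range_id, Submodule.span_univ, hI]
    trivial
  obtain ⟨a, ha, hsum⟩ := (Submodule.mem_ideal_smul_span_iff_exists_sum I id 1).mp h1
  obtain ⟨n, x, C, D, hCD, hx, hmem⟩ := exists_basis_matrix (k := k) a.support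
  have hmul : ∀ b ∈ B, ∀ w ∈ Subalgebra.toSubmodule B, b * w ∈ Subalgebra.toSubmodule B :=
    fun b hb w hw => B.mul_mem hb hw
  have hsub : HopfRep.IsSubcomod (k := k) (A := A) (Subalgebra.toSubmodule B) := fun b hb => by
    obtain ⟨z, hz⟩ := hB.1 b hb
    refine ⟨B.val.toLinearMap.lTensor B z, ?_⟩
    change (B.val.toLinearMap.rTensor A) _ = CoalgebraStruct.comul (R := k) b
    rw [← hz, ← LinearMap.comp_apply, LinearMap.rTensor_comp_lTensor]
  obtain ⟨P, hP, hPv⟩ := exists_retraction_rel hB _ hmul hsub x C D hCD hx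
  choose β hβ using fun t : a.support => exists_coeff (B := B) (hmem t t.2)
  let q : (Fin n → B) →ₗ[B] B :=
    { toFun := fun v => ⟨∑ j, ((P v) j : A) * x j, hP v⟩
      map_add' := fun u v => Subtype.ext (by simp [add_mul, Finset.sum_add_distrib])
      map_smul' := fun c v => Subtype.ext (by simp [Finset.mul_sum, mul_assoc]) }
  let v : Fin n → B := ∑ t : a.support, a t • β t
  have hv : ∑ j, (v j : A) * x j = 1 := by
    simp only [v, Finset.sum_apply, Pi.smul_apply, smul_eq_mul, AddSubmonoidClass.coe_finsetSum,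
      Subalgebra.coe_mul, Finset.sum_mul]
    rw [Finset.sum_comm]
    simp only [mul_assoc, ← Finset.mul_sum, hβ]
    rw [← hsum, Finsupp.sum]
    exact Finset.sum_coe_sort a.support fun t => (a t : A) * t
  have hq : q v = 1 := by
    refine Subtype.ext ?_
    change ∑ j, ((P v) j : A) * x j = 1
    rw [hPv v (show ∑ j, (v j : A) * x j ∈ _ by rw [hv]; exact B.one_mem)]
    exact hv
  refine (Ideal.eq_top_iff_one I).mpr ?_
  rw [← hq]
  simp only [v, map_sum, map_smul]
  exact I.sum_mem fun t _ => I.mul_mem_right _ (ha t)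

end Groth.Agent.HopfFF
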